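import Groth.Agent.VarNorm.Props
import Groth.Prelude.Def_Found
import Groth.Agent.VarDim1.TotalRing
import Mathlib.AlgebraicGeometry.Morphisms.FiniteType
import Mathlib.RingTheory.Localization.Integral

universe u

open CategoryTheory AlgebraicGeometry

/-! Sections of the normalization over affine opens; finiteness. -/

namespace Groth.Agent.VarNorm

variable (X : Scheme.{u}) [IsIntegral X]
variable [QuasiCompact (X.fromSpecStalk (genericPoint X))] [QuasiSeparated (X.fromSpecStalk (genericPoint X))]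

omit [IsIntegral X] in
omit [QuasiCompact (X.fromSpecStalk (genericPoint X))] [QuasiSeparated (X.fromSpecStalk (genericPoint X))] in
theorem appLE_SpecMap_fromSpec {U : X.Opens} (hU : IsAffineOpen U) {B : CommRingCat.{u}} (φ : Γ(X, U) ⟶ B)
    (a : Spec B ⟶ X) (ha : a = Spec.map φ ≫ hU.fromSpec) (e : ⊤ ≤ a ⁻¹ᵁ U) :
    a.appLE U ⊤ e ≫ (Scheme.ΓSpecIso B).hom = φ := by
  subst ha
  have e' : (⊤ : (Spec Γ(X, U)).Opens) ≤ hU.fromSpec ⁻¹ᵁ U := hU.fromSpec_preimage_self.ge
  have e'' : (⊤ : (Spec B).Opens) ≤ Spec.map φ ⁻¹ᵁ (⊤ : (Spec Γ(X, U)).Opens) := le_top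
  rw [← Scheme.Hom.appLE_comp_appLE (Spec.map φ) hU.fromSpec U ⊤ ⊤ e' e'']
  simp only [Scheme.Hom.appLE, Category.assoc, IsAffineOpen.fromSpec_app_self]
  have h3 : (Spec B).presheaf.map (homOfLE e'').op = 𝟙 Γ(Spec B, ⊤) :=
    (congrArg _ (Subsingleton.elim _ (𝟙 _))).trans ((Spec B).presheaf.map_id _)
  rw [← Functor.map_comp_assoc, Subsingleton.elim ((eqToHom _).op ≫ (homOfLE e').op) (𝟙 _), CategoryTheory.Functor.map_id,
    Category.id_comp, h3]
  erw [Category.id_comp]
  exact (congrArg ((Scheme.ΓSpecIso Γ(X, U)).inv ≫ ·) (Scheme.ΓSpecIso_naturality φ)).trans (Iso.inv_hom_id_assoc _ _)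

theorem exists_sectionsIso (U : X.Opens) (hU : IsAffineOpen U) [Nonempty U] :
    ∃ j : Γ(Curv2.normalization X, Curv2.normalizationι X ⁻¹ᵁ U) ≅ .of (integralClosure Γ(X, U) X.functionField),
      (Curv2.normalizationι X).app U ≫ j.hom =
        CommRingCat.ofHom (algebraMap Γ(X, U) (integralClosure Γ(X, U) X.functionField)) := by
  obtain ⟨g, hg, hrange, hcomp⟩ := exists_chart X U hU
  have hle : (⊤ : (Spec (.of (integralClosure Γ(X, U) X.functionField))).Opens) ≤ g ⁻¹ᵁ (Curv2.normalizationι X ⁻¹ᵁ U) := by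
    intro y _
    show g.base y ∈ Curv2.normalizationι X ⁻¹ᵁ U
    rw [← hrange]; exact ⟨y, rfl⟩
  have : IsIso (g.appLE (Curv2.normalizationι X ⁻¹ᵁ U) ⊤ hle) := by
    have := g.isIso_app (Curv2.normalizationι X ⁻¹ᵁ U) hrange.ge
    rw [Scheme.Hom.appLE]
    have : IsIso (homOfLE hle) := ⟨⟨homOfLE le_top, rfl, rfl⟩⟩
    infer_instance
  refine ⟨asIso (g.appLE (Curv2.normalizationι X ⁻¹ᵁ U) ⊤ hle) ≪≫ Scheme.ΓSpecIso _, ?_⟩
  rw [Iso.trans_hom, asIso_hom, ← Category.assoc,
    show (Curv2.normalizationι X).app U ≫ g.appLE (Curv2.normalizationι X ⁻¹ᵁ U) ⊤ hle =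
      (g ≫ Curv2.normalizationι X).appLE U ⊤ hle from (Scheme.Hom.comp_appLE _ _ _ _ _).symm]
  exact appLE_SpecMap_fromSpec X hU _ (g ≫ Curv2.normalizationι X) hcomp hle

theorem isFinite_normalizationι
    (hfin : ∀ (U : X.Opens) (_ : IsAffineOpen U) [Nonempty U], Module.Finite Γ(X, U) (integralClosure Γ(X, U) X.functionField)) :
    IsFinite (Curv2.normalizationι X) := by
  have hint : IsIntegralHom (Curv2.normalizationι X) :=
    inferInstanceAs (IsIntegralHom (X.fromSpecStalk (genericPoint X)).fromNormalization)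
  refine (IsFinite.iff_isIntegralHom_and_locallyOfFiniteType _).2 ⟨hint, ?_⟩
  choose U hU hxU using exists_affine_nonempty X
  have hne : ∀ x', Nonempty (U x') := fun x' => ⟨⟨_, hxU x'⟩⟩
  have hcov : TopologicalSpace.IsOpenCover fun x' => Curv2.normalizationι X ⁻¹ᵁ U x' :=
    top_le_iff.1 fun x' _ => TopologicalSpace.Opens.mem_iSup.2 ⟨x', hxU x'⟩
  have := HasRingHomProperty.instIsZariskiLocalAtSource (P := @LocallyOfFiniteType.{u}) (Q := RingHom.FiniteType)
  refine IsZariskiLocalAtSource.of_openCover (P := @LocallyOfFiniteType.{u}) ((Curv2.normalization X).openCoverOfIsOpenCover _ hcov) fun x' => ?_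
  have := hne x'
  obtain ⟨g, hg, hrange, hcomp⟩ := exists_chart X (U x') (hU x')
  let e := IsOpenImmersion.isoOfRangeEq (Curv2.normalizationι X ⁻¹ᵁ U x').ι g (by
    rw [Scheme.Opens.range_ι, ← hrange]; rfl)
  have he : (Curv2.normalizationι X ⁻¹ᵁ U x').ι = e.hom ≫ g := (IsOpenImmersion.isoOfRangeEq_hom_fac _ _ _).symm
  show LocallyOfFiniteType ((Curv2.normalizationι X ⁻¹ᵁ U x').ι ≫ Curv2.normalizationι X)
  rw [he, Category.assoc, hcomp]
  have : IsFinite (Spec.map (CommRingCat.ofHom (algebraMap Γ(X, U x') (integralClosure Γ(X, U x') X.functionField)))) := by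
    rw [IsFinite.SpecMap_iff]
    exact RingHom.finite_algebraMap.mpr (hfin (U x') (hU x'))
  have : IsOpenImmersion (hU x').fromSpec := IsAffineOpen.isOpenImmersion_fromSpec _
  infer_instance

theorem exists_dense_open_isIso (U : X.Opens) (hU : IsAffineOpen U) [Nonempty U]
    (hfin : Module.Finite Γ(X, U) (integralClosure Γ(X, U) X.functionField)) :
    ∃ V : X.Opens, Dense (V : Set X) ∧ IsIso (Curv2.normalizationι X ∣_ V) := by
  have := functionField_isFractionRing_of_isAffineOpen X U hU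
  obtain ⟨n, c, hc⟩ := Module.Finite.exists_fin (R := Γ(X, U)) (M := integralClosure Γ(X, U) X.functionField)
  obtain ⟨⟨d, hd⟩, hdc⟩ := IsLocalization.exist_integer_multiples (nonZeroDivisors Γ(X, U)) Finset.univ (fun i => (c i : X.functionField))
  have hdC : ∀ z : integralClosure Γ(X, U) X.functionField, ∃ a : Γ(X, U), algebraMap _ X.functionField a = d • (z : X.functionField) := by
    intro z
    have hz : z ∈ Submodule.span Γ(X, U) (Set.range c) := hc ▸ Submodule.mem_top
    induction hz using Submodule.span_induction with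
    | mem y hy => obtain ⟨i, rfl⟩ := hy; exact hdc i (Finset.mem_univ i)
    | zero => exact ⟨0, by simp⟩
    | add y₁ y₂ _ _ h₁ h₂ =>
      obtain ⟨b₁, e₁⟩ := h₁; obtain ⟨b₂, e₂⟩ := h₂
      exact ⟨b₁ + b₂, by simp [e₁, e₂, smul_add]⟩
    | smul r y _ h =>
      obtain ⟨b, e⟩ := h
      exact ⟨r * b, by rw [map_mul, e, Subalgebra.coe_smul, Algebra.smul_def, Algebra.smul_def, Algebra.smul_def]; ring⟩
  let V := X.basicOpen d
  have hVne : (V : Set X).Nonempty := by
    rw [Set.nonempty_iff_ne_empty]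
    intro h
    have hbot : X.basicOpen d = ⊥ := TopologicalSpace.Opens.ext (by simpa [V] using h)
    exact nonZeroDivisors.ne_zero hd ((AlgebraicGeometry.basicOpen_eq_bot_iff d).1 hbot)
  have : Nonempty V := hVne.to_subtype
  have hV : IsAffineOpen V := hU.basicOpen d
  refine ⟨V, V.isOpen.dense hVne, ?_⟩
  obtain ⟨g, hg, hrange, hcomp⟩ := exists_chart X V hV
  have := functionField_isFractionRing_of_isAffineOpen X V hV
  let φ := CommRingCat.ofHom (algebraMap Γ(X, V) (integralClosure Γ(X, V) X.functionField))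
  have hsurj : Function.Surjective (algebraMap Γ(X, V) (integralClosure Γ(X, V) X.functionField)) := by
    intro z
    let := (X.presheaf.map (homOfLE (X.basicOpen_le d)).op).hom.toAlgebra
    have hloc : IsLocalization.Away d Γ(X, V) := hU.isLocalization_basicOpen d
    have : IsScalarTower Γ(X, U) Γ(X, V) X.functionField := IsScalarTower.of_algebraMap_eq fun a =>
      (X.presheaf.germ_res_apply (homOfLE (X.basicOpen_le d)) (genericPoint X) (genericPoint_mem X hVne) a).symm
    obtain ⟨⟨_, m, rfl⟩, hm⟩ := IsIntegral.exists_multiple_integral_of_isLocalization (Submonoid.powers d) (z : X.functionField) z.2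
    obtain ⟨a, ha⟩ := hdC ⟨_, hm⟩
    refine ⟨IsLocalization.mk' Γ(X, V) a (⟨d ^ (m + 1), ⟨m + 1, rfl⟩⟩ : Submonoid.powers d), Subtype.ext ?_⟩
    show algebraMap Γ(X, V) X.functionField _ = (z : X.functionField)
    have hdne : algebraMap Γ(X, U) X.functionField (d ^ (m + 1)) ≠ 0 := fun h =>
      pow_ne_zero _ (nonZeroDivisors.ne_zero hd) (IsFractionRing.to_map_eq_zero_iff.1 h)
    refine mul_right_cancel₀ hdne ?_
    conv_lhs => rw [IsScalarTower.algebraMap_apply Γ(X, U) Γ(X, V) X.functionField (d ^ (m + 1)), ← map_mul]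
    rw [IsLocalization.mk'_spec, ← IsScalarTower.algebraMap_apply, ha]
    simp only [Submonoid.smul_def, Algebra.smul_def]
    rw [pow_succ, map_mul]; ring
  have hφ : IsIso φ := by
    have hinj : Function.Injective (algebraMap Γ(X, V) (integralClosure Γ(X, V) X.functionField)) := fun a b h =>
      IsFractionRing.injective Γ(X, V) X.functionField (congrArg Subtype.val h)
    exact (RingEquiv.ofBijective (algebraMap Γ(X, V) (integralClosure Γ(X, V) X.functionField)) ⟨hinj, hsurj⟩).toCommRingCatIso.isIso_hom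
  let e := IsOpenImmersion.isoOfRangeEq (Curv2.normalizationι X ⁻¹ᵁ V).ι g (by
    rw [Scheme.Opens.range_ι, ← hrange]; rfl)
  have he : (Curv2.normalizationι X ⁻¹ᵁ V).ι = e.hom ≫ g := (IsOpenImmersion.isoOfRangeEq_hom_fac _ _ _).symm
  have : Curv2.normalizationι X ∣_ V = e.hom ≫ Spec.map φ ≫ hV.isoSpec.inv := by
    rw [← cancel_mono V.ι, morphismRestrict_ι, he]
    simp only [Category.assoc, IsAffineOpen.isoSpec_inv_ι]
    rw [hcomp]
  rw [this]
  infer_instance

omit [QuasiCompact (X.fromSpecStalk (genericPoint X))] [QuasiSeparated (X.fromSpecStalk (genericPoint X))] in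
theorem finite_integralClosure_functionField (U : X.Opens) (hU : IsAffineOpen U) [Nonempty U]
    (hN : CAlg.IsNagata Γ(X, U)) :
    Module.Finite Γ(X, U) (integralClosure Γ(X, U) X.functionField) := by
  obtain ⟨hnoeth, hN2⟩ := hN
  have := functionField_isFractionRing_of_isAffineOpen X U hU
  have := VarDim1.finite_integralClosure (A := Γ(X, U)) fun p _ _ => hN2 p (FractionRing (Γ(X, U) ⧸ p)) inferInstance
  exact Module.Finite.equiv ((FractionRing.algEquiv Γ(X, U) X.functionField).mapIntegralClosure).toLinearEquiv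

end Groth.Agent.VarNorm
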