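import Groth.Agent.VarNorm.Sections
import Groth.Agent.QC70.Stalk
import Groth.Agent.QCqs72.Basic
import Groth.Agent.Div89.Stalk
import Groth.Prelude.Def_ClSub2

universe u

open CategoryTheory CategoryTheory.Limits AlgebraicGeometry

/-! The cokernel of the structure map into the normalization, on stalks. -/

set_option backward.isDefEq.respectTransparency.types false

namespace Groth.Agent.VarNorm

variable (X : Scheme.{u}) [IsIntegral X]
variable [QuasiCompact (X.fromSpecStalk (genericPoint X))] [QuasiSeparated (X.fromSpecStalk (genericPoint X))]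

/-- The direct image of the structure sheaf of the normalization. -/
noncomputable abbrev pushNorm : X.Modules :=
  (Scheme.Modules.pushforward (Curv2.normalizationι X)).obj (Coh.structureModule (Curv2.normalization X))

theorem isQCoh_pushNorm : Coh.IsQCoh (pushNorm X) := by
  have : IsIntegralHom (Curv2.normalizationι X) :=
    inferInstanceAs (IsIntegralHom (X.fromSpecStalk (genericPoint X)).fromNormalization)
  have : (Coh.structureModule (Curv2.normalization X)).IsQuasicoherent := inferInstance
  exact QCqs72.isQuasicoherent_pushforward (M := Coh.structureModule (Curv2.normalization X)) (Curv2.normalizationι X)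

theorem app_unitToPush (U : X.Opens) (a : Γ(X, U)) :
    (ClSub.unitToPush (Curv2.normalizationι X)).app U a = (Curv2.normalizationι X).app U a := rfl

theorem exists_linearEquiv_sections (U : X.Opens) (hU : IsAffineOpen U) [Nonempty U] :
    ∃ j : Γ(pushNorm X, U) ≃ₗ[Γ(X, U)] integralClosure Γ(X, U) X.functionField,
      ∀ a, j ((ClSub.unitToPush (Curv2.normalizationι X)).app U a) = algebraMap Γ(X, U) _ a := by
  obtain ⟨j, hj⟩ := exists_sectionsIso X U hU
  have hja : ∀ a, j.hom.hom ((Curv2.normalizationι X).app U a) = algebraMap Γ(X, U) _ a := fun a =>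
    congrArg (fun ψ => ψ.hom a) hj
  refine ⟨{ toFun := fun s => j.hom.hom s
            invFun := fun c => j.inv.hom c
            left_inv := fun s => congrArg (fun ψ => ψ.hom s) j.hom_inv_id
            right_inv := fun c => congrArg (fun ψ => ψ.hom c) j.inv_hom_id
            map_add' := fun a b => map_add j.hom.hom a b
            map_smul' := fun r s => ?_ }, hja⟩
  refine (map_mul j.hom.hom ((Curv2.normalizationι X).app U r) s).trans ?_
  rw [hja r, RingHom.id_apply, Algebra.smul_def]

theorem stalk_facts (x : X) :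
    Function.Injective (QC70.stalkLinear (ClSub.unitToPush (Curv2.normalizationι X)) x) ∧
    Nonempty (((pushNorm X).presheaf.stalk x ⧸ LinearMap.range (QC70.stalkLinear (ClSub.unitToPush (Curv2.normalizationι X)) x))
      ≃ₗ[X.presheaf.stalk x]
        ↥(integralClosure (X.presheaf.stalk x) (FractionRing (X.presheaf.stalk x))) ⧸
          LinearMap.range (Algebra.linearMap (X.presheaf.stalk x) ↥(integralClosure (X.presheaf.stalk x) (FractionRing (X.presheaf.stalk x))))) := by
  classical
  obtain ⟨_, ⟨U, hU', rfl⟩, hxU, -⟩ := X.isBasis_affineOpens.exists_subset_of_mem_open (Set.mem_univ x) isOpen_univ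
  have hU : IsAffineOpen U := hU'
  have : Nonempty U := ⟨⟨x, hxU⟩⟩
  obtain ⟨j, hj⟩ := exists_linearEquiv_sections X U hU
  let p : Ideal Γ(X, U) := Div89.primeAt ⟨U, hU⟩ x hxU
  have hp : p.IsPrime := Div89.primeAt_isPrime ⟨U, hU⟩ x hxU
  let := Div89.stalkAlg U x hxU
  have hloc : IsLocalization.AtPrime (X.presheaf.stalk x) p := Div89.isLocalization_stalk ⟨U, hU⟩ x hxU
  let := Div89.stalkModule (pushNorm X) U x hxU
  have : IsScalarTower Γ(X, U) (X.presheaf.stalk x) ((pushNorm X).presheaf.stalk x) := Div89.isScalarTower_stalk _ U x hxU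
  have hLM := Div89.isLocalizedModule_germLin (pushNorm X) (isQCoh_pushNorm X) ⟨U, hU⟩ x hxU
  have : IsScalarTower Γ(X, U) (X.presheaf.stalk x) X.functionField := functionField_isScalarTower X U ⟨x, hxU⟩
  let D := integralClosure (X.presheaf.stalk x) X.functionField
  let incl : integralClosure Γ(X, U) X.functionField →ₗ[Γ(X, U)] D :=
    { toFun := fun z => ⟨z.1, IsIntegral.tower_top (A := X.presheaf.stalk x) z.2⟩
      map_add' := fun _ _ => rfl
      map_smul' := fun r z => Subtype.ext rfl }
  have : IsLocalizedModule p.primeCompl incl := by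
    constructor
    · intro t
      rw [Module.End.isUnit_iff]
      have hu : IsUnit (algebraMap Γ(X, U) (X.presheaf.stalk x) t) := IsLocalization.map_units _ t
      have : (fun z : D => (t : Γ(X, U)) • z) = fun z : D => algebraMap Γ(X, U) (X.presheaf.stalk x) t • z := by
        ext z; rw [algebraMap_smul]
      show Function.Bijective (fun z : D => (t : Γ(X, U)) • z)
      rw [this]; exact hu.smul_bijective
    · intro z
      obtain ⟨t, ht⟩ := IsIntegral.exists_multiple_integral_of_isLocalization p.primeCompl (z : X.functionField) z.2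
      exact ⟨⟨⟨_, ht⟩, t⟩, rfl⟩
    · intro a b h
      exact ⟨1, by rw [show a = b from Subtype.ext (congrArg (fun z : D => (z : X.functionField)) h)]⟩
  let germ' := (Div89.germLin (pushNorm X) U x hxU).comp j.symm.toLinearMap
  have : IsLocalizedModule p.primeCompl germ' := by
    constructor
    · exact hLM.map_units
    · intro y
      obtain ⟨⟨s, t⟩, hst⟩ := hLM.surj y
      exact ⟨⟨j s, t⟩, by simp only [germ', LinearMap.comp_apply, LinearEquiv.coe_coe, LinearEquiv.symm_apply_apply]; exact hst⟩
    · intro a b h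
      obtain ⟨c, hc⟩ := hLM.exists_of_eq h
      refine ⟨c, j.symm.injective ?_⟩
      simp only [Submonoid.smul_def, map_smul] at hc ⊢
      exact hc
  let e₀ : (pushNorm X).presheaf.stalk x ≃ₗ[Γ(X, U)] D := IsLocalizedModule.linearEquiv p.primeCompl germ' incl
  let e : (pushNorm X).presheaf.stalk x ≃ₗ[X.presheaf.stalk x] D :=
    e₀.extendScalarsOfIsLocalization p.primeCompl (X.presheaf.stalk x)
  let := Div89.stalkModule (Coh.structureModule X) U x hxU
  have : IsScalarTower Γ(X, U) (X.presheaf.stalk x) ((Coh.structureModule X).presheaf.stalk x) := Div89.isScalarTower_stalk _ U x hxU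
  have hLO := Div89.isLocalizedModule_germLin (Coh.structureModule X) (inferInstanceAs (Coh.structureModule X).IsQuasicoherent) ⟨U, hU⟩ x hxU
  let l := QC70.stalkLinear (ClSub.unitToPush (Curv2.normalizationι X)) x
  let alg : Γ(Coh.structureModule X, U) →ₗ[Γ(X, U)] X.presheaf.stalk x :=
    { toFun := fun a => algebraMap Γ(X, U) (X.presheaf.stalk x) a
      map_add' := fun a b => map_add (algebraMap Γ(X, U) (X.presheaf.stalk x)) a b
      map_smul' := fun r a => by
        rw [RingHom.id_apply, Algebra.smul_def]
        exact map_mul (algebraMap Γ(X, U) (X.presheaf.stalk x)) r a }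
  have : IsLocalizedModule p.primeCompl alg := by
    have h : IsLocalizedModule p.primeCompl (Algebra.linearMap Γ(X, U) (X.presheaf.stalk x)) :=
      (isLocalizedModule_iff_isLocalization' p.primeCompl (X.presheaf.stalk x)).2 hloc
    exact h
  let θ₀ : (Coh.structureModule X).presheaf.stalk x ≃ₗ[Γ(X, U)] X.presheaf.stalk x :=
    IsLocalizedModule.linearEquiv p.primeCompl (Div89.germLin (Coh.structureModule X) U x hxU) alg
  let θ : (Coh.structureModule X).presheaf.stalk x ≃ₗ[X.presheaf.stalk x] X.presheaf.stalk x :=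
    θ₀.extendScalarsOfIsLocalization p.primeCompl (X.presheaf.stalk x)
  let d : X.presheaf.stalk x →ₗ[X.presheaf.stalk x] D := Algebra.linearMap _ D
  have hel : (e : _ →ₗ[X.presheaf.stalk x] D) ∘ₗ l = d ∘ₗ (θ : _ →ₗ[X.presheaf.stalk x] X.presheaf.stalk x) := by
    have key : ((e : _ →ₗ[X.presheaf.stalk x] D) ∘ₗ l).restrictScalars Γ(X, U) =
        (d ∘ₗ (θ : _ →ₗ[X.presheaf.stalk x] X.presheaf.stalk x)).restrictScalars Γ(X, U) := by
      refine IsLocalizedModule.linearMap_ext p.primeCompl (Div89.germLin (Coh.structureModule X) U x hxU) incl (LinearMap.ext fun a => ?_)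
      show e₀ (QC70.stalkMapM _ x (QC70.germM (Coh.structureModule X) U x hxU a)) =
        algebraMap (X.presheaf.stalk x) D (θ₀ (Div89.germLin (Coh.structureModule X) U x hxU a))
      rw [QC70.stalkMapM_germ, IsLocalizedModule.linearEquiv_apply]
      have h2 : QC70.germM (pushNorm X) U x hxU ((ClSub.unitToPush (Curv2.normalizationι X)).app U a) =
          germ' (algebraMap Γ(X, U) _ a) := by
        simp only [germ', LinearMap.comp_apply, LinearEquiv.coe_coe, ← hj, LinearEquiv.symm_apply_apply]; rfl
      rw [h2, IsLocalizedModule.linearEquiv_apply]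
      exact Subtype.ext (IsScalarTower.algebraMap_apply Γ(X, U) (X.presheaf.stalk x) X.functionField a)
    exact LinearMap.ext fun y => LinearMap.congr_fun key y
  let ε : D ≃ₗ[X.presheaf.stalk x] integralClosure (X.presheaf.stalk x) (FractionRing (X.presheaf.stalk x)) :=
    ((FractionRing.algEquiv (X.presheaf.stalk x) X.functionField).symm.mapIntegralClosure).toLinearEquiv
  refine ⟨fun a b h => θ.injective ?_, ⟨Submodule.Quotient.equiv _ _ (e.trans ε) ?_⟩⟩
  · have := (LinearMap.congr_fun hel a).symm.trans ((congrArg e h).trans (LinearMap.congr_fun hel b))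
    exact IsFractionRing.injective (X.presheaf.stalk x) X.functionField (congrArg (fun z : D => (z : X.functionField)) this)
  · rw [← LinearMap.range_comp, LinearEquiv.coe_trans, LinearMap.comp_assoc, hel, ← LinearMap.comp_assoc,
      LinearMap.range_comp_of_range_eq_top _ (LinearEquiv.range θ)]
    congr 1
    exact LinearMap.ext fun a => Subtype.ext (((FractionRing.algEquiv (X.presheaf.stalk x) X.functionField).symm).commutes a)

theorem mono_unitToPush : Mono (ClSub.unitToPush (Curv2.normalizationι X)) :=
  QC70.mono_of_injective_stalkMapM _ fun x => (stalk_facts X x).1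

theorem nonempty_cokernel_stalk_equiv (x : X) :
    Nonempty ((cokernel (ClSub.unitToPush (Curv2.normalizationι X))).presheaf.stalk x ≃ₗ[X.presheaf.stalk x]
      ↥(integralClosure (X.presheaf.stalk x) (FractionRing (X.presheaf.stalk x))) ⧸
          LinearMap.range (Algebra.linearMap (X.presheaf.stalk x) ↥(integralClosure (X.presheaf.stalk x) (FractionRing (X.presheaf.stalk x))))) := by
  have := mono_unitToPush X
  let φ := ClSub.unitToPush (Curv2.normalizationι X)
  let π := QC70.stalkLinear (cokernel.π φ) x
  have hπ : Function.Surjective π := QC70.surjective_stalkMapM_of_epi _ x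
  let S : ShortComplex X.Modules := ShortComplex.mk φ (cokernel.π φ) (cokernel.condition φ)
  have hS : S.Exact := ShortComplex.exact_of_g_is_cokernel S (cokernelIsCokernel φ)
  have : Mono S.f := this
  have hker : LinearMap.ker π = LinearMap.range (QC70.stalkLinear φ x) := by
    ext m
    constructor
    · intro hm
      obtain ⟨d, hd⟩ := QC70.stalkMapM_exact S hS x m hm
      exact ⟨d, hd⟩
    · rintro ⟨d, rfl⟩
      obtain ⟨W, hxW, s, rfl⟩ := QC70.germM_exist d
      show QC70.stalkMapM (cokernel.π φ) x (QC70.stalkMapM φ x _) = 0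
      rw [QC70.stalkMapM_germ, QC70.stalkMapM_germ, ← ConcreteCategory.comp_apply, ← Scheme.Modules.Hom.comp_app,
        cokernel.condition, Scheme.Modules.Hom.zero_app]
      exact QC70.germM_zero hxW
  obtain ⟨e⟩ := (stalk_facts X x).2
  exact ⟨((π.quotKerEquivOfSurjective hπ).symm.trans (Submodule.quotEquivOfEq _ _ hker)).trans e⟩

theorem length_cokernel_stalk (x : X) :
    Module.length (X.presheaf.stalk x) ((cokernel (ClSub.unitToPush (Curv2.normalizationι X))).presheaf.stalk x) =
      Curv2.deltaInv (X.presheaf.stalk x) := by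
  obtain ⟨e⟩ := nonempty_cokernel_stalk_equiv X x
  exact e.length_eq

omit [QuasiCompact (X.fromSpecStalk (genericPoint X))] [QuasiSeparated (X.fromSpecStalk (genericPoint X))] in
theorem eq_genericPoint_of_not_isClosed (hdim : topologicalKrullDim X ≤ 1) {x : X} (hx : ¬ IsClosed ({x} : Set X)) :
    x = genericPoint X := by
  have : ∃ y, x ⤳ y ∧ y ≠ x := by
    by_contra h
    push Not at h
    refine hx (closure_subset_iff_isClosed.1 fun y hy => ?_)
    exact h y (specializes_iff_mem_closure.2 hy)
  obtain ⟨y, hxy, hne⟩ := this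
  obtain ⟨_, ⟨U, hU', rfl⟩, hyU, -⟩ := X.isBasis_affineOpens.exists_subset_of_mem_open (Set.mem_univ y) isOpen_univ
  have hU : IsAffineOpen U := hU'
  have hxU : x ∈ U := hxy.mem_open U.isOpen hyU
  have : Nonempty U := ⟨⟨y, hyU⟩⟩
  have := krullDimLE_of_isAffineOpen X hdim hU
  by_contra hgen
  have hηU : genericPoint X ∈ U := genericPoint_mem X ⟨y, hyU⟩
  have hbot : Div89.primeAt ⟨U, hU⟩ x hxU ≠ ⊥ := by
    intro h
    refine hgen ?_
    have h2 : hU.primeIdealOf ⟨x, hxU⟩ = hU.primeIdealOf ⟨genericPoint X, hηU⟩ := by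
      rw [hU.primeIdealOf_genericPoint, genericPoint_eq_bot_of_affine]
      exact PrimeSpectrum.ext h
    have h3 := congrArg hU.fromSpec h2
    rwa [hU.fromSpec_primeIdealOf, hU.fromSpec_primeIdealOf] at h3
  have hmax := (Div89.primeAt_isPrime ⟨U, hU⟩ x hxU).isMaximal_of_ne_bot hbot
  have hle := (Div89.specializes_iff_primeAt_le ⟨U, hU⟩ hyU hxU).1 hxy
  have heq := hmax.eq_of_le (Div89.primeAt_isPrime ⟨U, hU⟩ y hyU).ne_top hle
  have h2 : hU.primeIdealOf ⟨x, hxU⟩ = hU.primeIdealOf ⟨y, hyU⟩ := PrimeSpectrum.ext heq
  have h3 := congrArg hU.fromSpec h2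
  rw [hU.fromSpec_primeIdealOf, hU.fromSpec_primeIdealOf] at h3
  exact hne h3.symm

theorem subsingleton_cokernel_stalk_generic :
    Subsingleton ((cokernel (ClSub.unitToPush (Curv2.normalizationι X))).presheaf.stalk (genericPoint X)) := by
  obtain ⟨e⟩ := nonempty_cokernel_stalk_equiv X (genericPoint X)
  have hf : IsField (X.presheaf.stalk (genericPoint X)) := Field.toIsField X.functionField
  suffices h : Subsingleton (↥(integralClosure (X.presheaf.stalk (genericPoint X)) (FractionRing (X.presheaf.stalk (genericPoint X)))) ⧸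
      LinearMap.range (Algebra.linearMap (X.presheaf.stalk (genericPoint X)) ↥(integralClosure (X.presheaf.stalk (genericPoint X)) (FractionRing (X.presheaf.stalk (genericPoint X)))))) from
    e.toEquiv.subsingleton
  rw [Submodule.Quotient.subsingleton_iff, eq_top_iff]
  intro z _
  obtain ⟨a, ⟨b, hb⟩, h⟩ := IsLocalization.exists_mk'_eq (nonZeroDivisors (X.presheaf.stalk (genericPoint X)))
    (z : FractionRing (X.presheaf.stalk (genericPoint X)))
  obtain ⟨c, hc⟩ := hf.mul_inv_cancel (nonZeroDivisors.ne_zero hb)
  refine ⟨a * c, Subtype.ext ?_⟩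
  show algebraMap _ _ (a * c) = (z : FractionRing (X.presheaf.stalk (genericPoint X)))
  rw [← h, IsLocalization.eq_mk'_iff_mul_eq, ← map_mul, mul_assoc, mul_comm c, hc, mul_one]

end Groth.Agent.VarNorm
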