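import Groth.Prelude.Def_Brnch
import Mathlib.FieldTheory.SeparableDegree
import Mathlib.RingTheory.Localization.FractionRing
import Mathlib.RingTheory.IntegralClosure.Algebra.Basic
import Mathlib.Topology.Algebra.InfiniteSum.Order
import Mathlib.Topology.Instances.ENat
import Mathlib.Data.Set.Card

universe u

/-! Branches of a reduced local ring, computed in any model of its total ring of fractions. -/

namespace Groth.Agent.VarNorm

theorem hasSum_enat_card_sigma {ι : Type*} (T : ι → Type*) :
    HasSum (fun i => ENat.card (T i)) (ENat.card (Σ i, T i)) := by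
  classical
  have key : ∀ s : Finset ι, ∑ i ∈ s, ENat.card (T i) = {z : Σ i, T i | z.1 ∈ s}.encard := by
    intro s
    induction s using Finset.induction_on with
    | empty => simp
    | insert a s ha ih =>
      have h1 : {z : Σ i, T i | z.1 ∈ insert a s} = Sigma.mk a '' Set.univ ∪ {z | z.1 ∈ s} := by
        ext ⟨i, t⟩
        simp only [Finset.mem_insert, Set.mem_ofPred_eq, Set.image_univ, Set.mem_union, Set.mem_range]
        constructor
        · rintro (rfl | h)
          · exact Or.inl ⟨t, rfl⟩
          · exact Or.inr h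
        · rintro (⟨y, h⟩ | h)
          · exact Or.inl (congrArg Sigma.fst h).symm
          · exact Or.inr h
      rw [h1, Set.encard_union_eq, Finset.sum_insert ha, ih,
        sigma_mk_injective.injOn.encard_image, Set.encard_univ]
      rw [Set.disjoint_left]
      rintro _ ⟨t, -, rfl⟩ h
      exact ha h
  refine hasSum_of_isLUB (ENat.card (Σ i, T i)) ⟨?_, fun b hb => ?_⟩
  · rintro _ ⟨s, rfl⟩
    simp only
    rw [key, ← Set.encard_univ]
    exact Set.encard_le_encard (Set.subset_univ _)
  · by_contra hlt
    rw [not_le] at hlt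
    obtain ⟨n, rfl⟩ := ENat.ne_top_iff_exists.1 hlt.ne_top
    obtain ⟨F, -, hF⟩ := Set.exists_subset_encard_eq (s := (Set.univ : Set (Σ i, T i))) (k := ((n + 1 : ℕ) : ℕ∞))
      (by rw [Set.encard_univ, Nat.cast_add, Nat.cast_one]; exact Order.add_one_le_of_lt hlt)
    have hfin : F.Finite := Set.finite_of_encard_eq_coe hF
    have h2 := hb ⟨hfin.toFinset.image Sigma.fst, rfl⟩
    simp only [key] at h2
    have h3 : F.encard ≤ {z : Σ i, T i | z.1 ∈ hfin.toFinset.image Sigma.fst}.encard :=
      Set.encard_le_encard fun z hz => Finset.mem_image_of_mem _ (hfin.mem_toFinset.2 hz)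
    rw [hF] at h3
    exact absurd (Nat.cast_le.1 (h3.trans h2)) (by omega)

theorem enat_card_sigma {ι : Type*} (T : ι → Type*) : ENat.card (Σ i, T i) = ∑' i, ENat.card (T i) :=
  (hasSum_enat_card_sigma T).tsum_eq.symm

/-- Transport of maximal ideals along a ring isomorphism. -/
def maximalSpectrumEquiv {R S : Type*} [CommRing R] [CommRing S] (e : R ≃+* S) :
    MaximalSpectrum S ≃ MaximalSpectrum R where
  toFun m := ⟨m.asIdeal.comap e, Ideal.comap_isMaximal_of_equiv e⟩
  invFun m := ⟨m.asIdeal.comap e.symm, Ideal.comap_isMaximal_of_equiv e.symm⟩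
  left_inv m := MaximalSpectrum.ext (SetLike.ext fun z => iff_of_eq (congrArg (· ∈ m.asIdeal) (e.apply_symm_apply z)))
  right_inv m := MaximalSpectrum.ext (SetLike.ext fun z => iff_of_eq (congrArg (· ∈ m.asIdeal) (e.symm_apply_apply z)))

variable (A : Type u) [CommRing A] [IsLocalRing A]

/-- Embeddings of the residue field of a maximal ideal of an `A`-algebra over that of `A`. -/
def EmbOf (D : Type u) [CommRing D] [Algebra A D] (Q : MaximalSpectrum D) : Type u :=
  {σ : D ⧸ Q.asIdeal →+* AlgebraicClosure (IsLocalRing.ResidueField A) //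
    σ.comp ((Ideal.Quotient.mk Q.asIdeal).comp (algebraMap A D)) = Brnch.toClosure A}

omit [IsLocalRing A] in
theorem exists_normRedEquiv [IsReduced A] (L : Type u) [CommRing L] [Algebra A L] [IsFractionRing A L] :
    ∃ ψ : CAlg2.normRed A ≃+* integralClosure A L, ∀ a,
      ψ (algebraMap (CAlg2.red A) (CAlg2.normRed A) (Ideal.Quotient.mk (nilradical A) a)) =
        algebraMap A (integralClosure A L) a := by
  have hbij : Function.Bijective (Ideal.Quotient.mk (nilradical A)) := by
    refine ⟨(injective_iff_map_eq_zero _).2 fun a ha => ?_, Ideal.Quotient.mk_surjective⟩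
    rwa [Ideal.Quotient.eq_zero_iff_mem, nilradical_eq_zero, Ideal.zero_eq_bot, Ideal.mem_bot] at ha
  let e : A ≃+* CAlg2.red A := RingEquiv.ofBijective _ hbij
  let _ : Algebra (CAlg2.red A) L := ((algebraMap A L).comp e.symm.toRingHom).toAlgebra
  have htower : IsScalarTower A (CAlg2.red A) L := IsScalarTower.of_algebraMap_eq fun a => by
    show algebraMap A L a = algebraMap A L (e.symm (e a))
    rw [RingEquiv.symm_apply_apply]
  have hint : Algebra.IsIntegral A (CAlg2.red A) :=
    ⟨fun z => by obtain ⟨a, rfl⟩ := hbij.2 z; exact isIntegral_algebraMap⟩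
  have : IsFractionRing (CAlg2.red A) L :=
    IsLocalization.isLocalization_of_base_ringEquiv (nonZeroDivisors A) L e |>
      fun h => by rwa [MulEquivClass.map_nonZeroDivisors e] at h
  let φ : CAlg2.normRed A ≃ₐ[CAlg2.red A] integralClosure (CAlg2.red A) L :=
    (FractionRing.algEquiv (CAlg2.red A) L).mapIntegralClosure
  let ι : integralClosure (CAlg2.red A) L ≃+* integralClosure A L :=
    { toFun := fun z => ⟨z.1, isIntegral_trans z.1 z.2⟩
      invFun := fun z => ⟨z.1, IsIntegral.tower_top z.2⟩
      map_mul' := fun _ _ => rfl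
      map_add' := fun _ _ => rfl }
  refine ⟨φ.toRingEquiv.trans ι, fun a => Subtype.ext ?_⟩
  show (φ (algebraMap _ _ (Ideal.Quotient.mk (nilradical A) a))).1 = algebraMap A L a
  rw [φ.commutes]
  exact (IsScalarTower.algebraMap_apply A (CAlg2.red A) L a).symm

theorem numBranches_eq [IsReduced A] (L : Type u) [CommRing L] [Algebra A L] [IsFractionRing A L]
    (hfin : (minimalPrimes A).Finite) :
    Brnch.numBranches A = ENat.card (MaximalSpectrum (integralClosure A L)) := by
  obtain ⟨ψ, -⟩ := exists_normRedEquiv A L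
  rw [Brnch.numBranches, if_pos hfin]
  exact ENat.card_congr (maximalSpectrumEquiv ψ).symm

theorem numGeomBranches_eq [IsReduced A] (L : Type u) [CommRing L] [Algebra A L] [IsFractionRing A L]
    (hfin : (minimalPrimes A).Finite) :
    Brnch.numGeomBranches A =
      ENat.card (Σ Q : MaximalSpectrum (integralClosure A L), EmbOf A (integralClosure A L) Q) := by
  obtain ⟨ψ, hψ⟩ := exists_normRedEquiv A L
  rw [Brnch.numGeomBranches, if_pos hfin]
  refine ENat.card_congr (Equiv.sigmaCongr (maximalSpectrumEquiv ψ) fun Q => ?_).symm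
  have hQ : Q.asIdeal = ((maximalSpectrumEquiv ψ Q).asIdeal).map (ψ : CAlg2.normRed A →+* integralClosure A L) :=
    (Ideal.map_comap_of_surjective _ ψ.surjective _).symm
  let χ : CAlg2.normRed A ⧸ (maximalSpectrumEquiv ψ Q).asIdeal ≃+* integralClosure A L ⧸ Q.asIdeal :=
    Ideal.quotientEquiv _ _ ψ hQ
  have hχ : ∀ a, χ (Brnch.toResidue A (maximalSpectrumEquiv ψ Q) a) =
      Ideal.Quotient.mk Q.asIdeal (algebraMap A _ a) := fun a => by
    show Ideal.Quotient.mk Q.asIdeal (ψ _) = _
    rw [RingHom.comp_apply, hψ a]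
  exact
    { toFun := fun σ => ⟨σ.1.comp χ.toRingHom, RingHom.ext fun a => by
        show σ.1 (χ _) = _
        rw [hχ a]; exact RingHom.congr_fun σ.2 a⟩
      invFun := fun τ => ⟨τ.1.comp χ.symm.toRingHom, RingHom.ext fun a => by
        show τ.1 (χ.symm (Ideal.Quotient.mk _ (algebraMap A _ a))) = _
        rw [← hχ a, RingEquiv.symm_apply_apply]; exact RingHom.congr_fun τ.2 a⟩
      left_inv := fun σ => Subtype.ext (RingHom.ext fun z => congrArg σ.1 (χ.apply_symm_apply z))
      right_inv := fun τ => Subtype.ext (RingHom.ext fun z => congrArg τ.1 (χ.symm_apply_apply z)) }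

/-- Embeddings of the residue field of `Q` as embeddings of any field identified with it. -/
theorem nonempty_embOf_equiv {D : Type u} [CommRing D] [Algebra A D] [Algebra.IsIntegral A D] (Q : MaximalSpectrum D)
    (E : Type u) [Field E] [Algebra (IsLocalRing.ResidueField A) E]
    (χ : D ⧸ Q.asIdeal ≃+* E)
    (hχ : ∀ a, χ (Ideal.Quotient.mk Q.asIdeal (algebraMap A D a)) =
      algebraMap (IsLocalRing.ResidueField A) E (IsLocalRing.residue A a)) :
    Nonempty (EmbOf A D Q ≃ Field.Emb (IsLocalRing.ResidueField A) E) ∧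
      Algebra.IsAlgebraic (IsLocalRing.ResidueField A) E := by
  let κ := IsLocalRing.ResidueField A
  have : Algebra.IsAlgebraic κ E := ⟨fun z => by
    obtain ⟨d, hd⟩ := Ideal.Quotient.mk_surjective (χ.symm z)
    obtain ⟨p, hp, hp0⟩ := Algebra.IsIntegral.isIntegral (R := A) d
    refine IsIntegral.isAlgebraic ⟨p.map (IsLocalRing.residue A), hp.map _, ?_⟩
    rw [Polynomial.eval₂_map]
    have h := congrArg (χ.toRingHom.comp (Ideal.Quotient.mk Q.asIdeal)) hp0
    rw [Polynomial.hom_eval₂, map_zero] at h
    have hz : (χ.toRingHom.comp (Ideal.Quotient.mk Q.asIdeal)) d = z := by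
      show χ (Ideal.Quotient.mk Q.asIdeal d) = z
      rw [hd, RingEquiv.apply_symm_apply]
    rw [hz] at h
    refine Eq.trans ?_ h
    congr 1
    exact RingHom.ext fun a => (hχ a).symm⟩
  refine ⟨⟨?_⟩, this⟩
  refine Equiv.trans ?_ (Field.embEquivOfIsAlgClosed κ E (AlgebraicClosure κ)).symm
  exact
    { toFun := fun σ =>
        { toRingHom := σ.1.comp χ.symm.toRingHom
          commutes' := fun r => by
            obtain ⟨a, rfl⟩ := IsLocalRing.residue_surjective r
            show σ.1 (χ.symm _) = _
            rw [← hχ a, RingEquiv.symm_apply_apply]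
            exact RingHom.congr_fun σ.2 a }
      invFun := fun τ => ⟨τ.toRingHom.comp χ.toRingHom, RingHom.ext fun a => by
        show τ (χ _) = _
        rw [RingHom.comp_apply, hχ a, τ.commutes]; rfl⟩
      left_inv := fun σ => Subtype.ext (RingHom.ext fun z => congrArg σ.1 (χ.symm_apply_apply z))
      right_inv := fun τ => AlgHom.ext fun z => congrArg τ (χ.apply_symm_apply z) }

end Groth.Agent.VarNorm
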