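import Groth.Agent.VarNorm.Branches
import Mathlib.RingTheory.Length
import Mathlib.RingTheory.Artinian.Module

universe u

/-! Geometric branches are bounded by the length of the cokernel plus one. -/

namespace Groth.Agent.VarNorm

/-- For a finite algebra over a local ring, the geometrically counted maximal ideals number at most
one more than the length of the cokernel of the structure map. -/
theorem card_sigma_embOf_le (A : Type u) [CommRing A] [IsLocalRing A] (D : Type u) [CommRing D] [Algebra A D]
    [Module.Finite A D] :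
    ENat.card (Σ Q : MaximalSpectrum D, EmbOf A D Q) ≤
      Module.length A (D ⧸ LinearMap.range (Algebra.linearMap A D)) + 1 := by
  classical
  let κ := IsLocalRing.ResidueField A
  have hle : ∀ Q : MaximalSpectrum D, IsLocalRing.maximalIdeal A ≤ Q.asIdeal.comap (algebraMap A D) := fun Q => by
    rw [IsLocalRing.eq_maximalIdeal (Ideal.isMaximal_comap_of_isIntegral_of_isMaximal Q.asIdeal)]
  let _ : ∀ Q : MaximalSpectrum D, Field (D ⧸ Q.asIdeal) := fun Q => Ideal.Quotient.field _
  let _ : ∀ Q : MaximalSpectrum D, Algebra κ (D ⧸ Q.asIdeal) := fun Q =>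
    (Ideal.Quotient.lift (IsLocalRing.maximalIdeal A) (algebraMap A (D ⧸ Q.asIdeal)) fun a ha =>
      Ideal.Quotient.eq_zero_iff_mem.2 (hle Q ha)).toAlgebra
  have htower : ∀ Q : MaximalSpectrum D, IsScalarTower A κ (D ⧸ Q.asIdeal) := fun Q =>
    IsScalarTower.of_algebraMap_eq fun a => rfl
  have hfinite : ∀ Q : MaximalSpectrum D, FiniteDimensional κ (D ⧸ Q.asIdeal) := fun Q =>
    have : Module.Finite A (D ⧸ Q.asIdeal) :=
      Module.Finite.of_surjective (Ideal.Quotient.mkₐ A Q.asIdeal).toLinearMap Ideal.Quotient.mk_surjective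
    Module.Finite.of_restrictScalars_finite A κ _
  have hfinspec : Finite (MaximalSpectrum D) := by
    let I := (IsLocalRing.maximalIdeal A).map (algebraMap A D)
    have : IsArtinianRing (D ⧸ I) := by
      let _ : Algebra κ (D ⧸ I) := Ideal.Quotient.algebraQuotientOfLEComap Ideal.le_comap_map
      have : IsScalarTower A κ (D ⧸ I) := IsScalarTower.of_algebraMap_eq fun _ => rfl
      have : Module.Finite A (D ⧸ I) :=
        Module.Finite.of_surjective (Ideal.Quotient.mkₐ A I).toLinearMap Ideal.Quotient.mk_surjective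
      have : Module.Finite κ (D ⧸ I) := Module.Finite.of_restrictScalars_finite A κ _
      exact IsArtinianRing.of_finite κ _
    refine Finite.of_injective
      (fun Q : MaximalSpectrum D => (⟨Q.asIdeal.map (Ideal.Quotient.mk I),
        Ideal.IsMaximal.map_of_surjective_of_ker_le Ideal.Quotient.mk_surjective
          (by rw [Ideal.mk_ker]; exact Ideal.map_le_iff_le_comap.2 (hle Q))⟩ : MaximalSpectrum (D ⧸ I)))
      fun Q Q' h => ?_
    have hmem : ∀ R : MaximalSpectrum D, (R.asIdeal.map (Ideal.Quotient.mk I)).comap (Ideal.Quotient.mk I) = R.asIdeal :=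
      fun R => by
        rw [Ideal.comap_map_of_surjective _ Ideal.Quotient.mk_surjective, ← RingHom.ker_eq_comap_bot, Ideal.mk_ker]
        exact sup_eq_left.2 (Ideal.map_le_iff_le_comap.2 (hle R))
    exact MaximalSpectrum.ext (by
      rw [← hmem Q, ← hmem Q', show Q.asIdeal.map (Ideal.Quotient.mk I) = Q'.asIdeal.map (Ideal.Quotient.mk I) from
        congrArg MaximalSpectrum.asIdeal h])
  cases nonempty_fintype (MaximalSpectrum D)
  -- separable degrees are bounded by degrees
  have hemb : ∀ Q : MaximalSpectrum D,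
      ENat.card (EmbOf A D Q) ≤ Module.length A (D ⧸ Q.asIdeal) := fun Q => by
    have := hfinite Q
    obtain ⟨⟨e⟩, -⟩ := nonempty_embOf_equiv A Q (D ⧸ Q.asIdeal) (RingEquiv.refl _) (fun a => rfl)
    have : Finite (Field.Emb κ (D ⧸ Q.asIdeal)) := Finite.of_fintype _
    rw [Module.length_eq_of_surjective (R := κ) (S := A) IsLocalRing.residue_surjective,
      Module.length_eq_finrank, ENat.card_congr e, ENat.card_eq_coe_natCard]
    exact_mod_cast Field.finSepDegree_le_finrank κ (D ⧸ Q.asIdeal)
  -- the semisimple quotient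
  let M := ∀ Q : MaximalSpectrum D, D ⧸ Q.asIdeal
  let π : D →ₗ[A] M := LinearMap.pi fun Q => (Ideal.Quotient.mkₐ A Q.asIdeal).toLinearMap
  have hπ : Function.Surjective π := fun z => by
    obtain ⟨d, hd⟩ := Ideal.pi_quotient_surjective
      (I := fun Q : MaximalSpectrum D => Q.asIdeal)
      (fun Q Q' h => Ideal.isCoprime_iff_sup_eq.2 (Q.isMaximal.coprime_of_ne Q'.isMaximal
        fun h' => h (MaximalSpectrum.ext h'))) z
    exact ⟨d, funext hd⟩
  let R₁ : Submodule A M := LinearMap.range (Algebra.linearMap A M)
  have hR₁ : Module.length A R₁ ≤ 1 := by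
    let ι : κ →ₗ[A] M :=
      { toFun := fun r Q => algebraMap κ (D ⧸ Q.asIdeal) r
        map_add' := fun r s => funext fun Q => map_add _ r s
        map_smul' := fun a r => funext fun Q => by
          show algebraMap κ (D ⧸ Q.asIdeal) (a • r) = a • algebraMap κ (D ⧸ Q.asIdeal) r
          rw [Algebra.algebraMap_eq_smul_one, Algebra.algebraMap_eq_smul_one, smul_assoc] }
    have : R₁ ≤ LinearMap.range ι := by
      rintro _ ⟨a, rfl⟩
      exact ⟨IsLocalRing.residue A a, funext fun Q => rfl⟩
    refine (Module.length_le_of_injective (Submodule.inclusion this) (Submodule.inclusion_injective this)).trans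
      ((Module.length_le_of_surjective ι.rangeRestrict ι.surjective_rangeRestrict).trans ?_)
    rw [Module.length_eq_of_surjective (R := κ) (S := A) IsLocalRing.residue_surjective]
    exact (Module.length_eq_one κ κ).le
  have hquot : Module.length A (M ⧸ R₁) ≤ Module.length A (D ⧸ LinearMap.range (Algebra.linearMap A D)) := by
    refine Module.length_le_of_surjective (Submodule.mapQ _ R₁ π ?_) ?_
    · rintro _ ⟨a, rfl⟩
      exact ⟨a, funext fun Q => rfl⟩
    · intro z
      obtain ⟨z, rfl⟩ := Submodule.Quotient.mk_surjective _ z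
      obtain ⟨d, rfl⟩ := hπ z
      exact ⟨Submodule.Quotient.mk d, rfl⟩
  calc ENat.card (Σ Q : MaximalSpectrum D, EmbOf A D Q)
      = ∑ Q, ENat.card (EmbOf A D Q) := by rw [enat_card_sigma, tsum_fintype]
    _ ≤ ∑ Q : MaximalSpectrum D, Module.length A (D ⧸ Q.asIdeal) := Finset.sum_le_sum fun Q _ => hemb Q
    _ = Module.length A M := (Module.length_pi_of_fintype A _).symm
    _ = Module.length A R₁ + Module.length A (M ⧸ R₁) :=
        Module.length_eq_add_of_exact R₁.subtype R₁.mkQ (Submodule.subtype_injective _)
          (Submodule.mkQ_surjective _) (LinearMap.exact_subtype_mkQ R₁)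
    _ ≤ Module.length A (D ⧸ LinearMap.range (Algebra.linearMap A D)) + 1 := by
        rw [add_comm]; exact add_le_add hquot hR₁

end Groth.Agent.VarNorm
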