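import Groth.Agent.VarNorm.Chart
import Groth.Agent.VarDim1.KrullAkizuki
import Mathlib.AlgebraicGeometry.Noetherian
import Mathlib.RingTheory.DedekindDomain.Dvr
import Mathlib.Topology.KrullDimension
import Mathlib.RingTheory.Spectrum.Prime.Topology

universe u

open CategoryTheory AlgebraicGeometry

/-! Local properties of the normalization of an integral scheme. -/

namespace Groth.Agent.VarNorm

variable (X : Scheme.{u}) [IsIntegral X]

omit [IsIntegral X] in
theorem krullDimLE_of_isAffineOpen (hdim : topologicalKrullDim X ≤ 1) {U : X.Opens} (hU : IsAffineOpen U) :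
    Ring.KrullDimLE 1 Γ(X, U) := by
  rw [Ring.KrullDimLE, Order.krullDimLE_iff]
  refine le_trans (le_of_eq ?_) (le_trans (Topology.IsInducing.topologicalKrullDim_le hU.fromSpec.isOpenEmbedding.isInducing) hdim)
  exact (PrimeSpectrum.topologicalKrullDim_eq_ringKrullDim Γ(X, U)).symm

theorem finite_quotient_of_ne_bot [IsLocallyNoetherian X] (hdim : topologicalKrullDim X ≤ 1)
    {U : X.Opens} (hU : IsAffineOpen U) [Nonempty U]
    {I : Ideal (integralClosure Γ(X, U) X.functionField)} (hI : I ≠ ⊥) :
    Module.Finite Γ(X, U) (integralClosure Γ(X, U) X.functionField ⧸ I) := by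
  have := functionField_isFractionRing_of_isAffineOpen X U hU
  have := krullDimLE_of_isAffineOpen X hdim hU
  have : IsNoetherianRing Γ(X, U) := IsLocallyNoetherian.component_noetherian ⟨U, hU⟩
  exact VarDim1.finite_quotient X.functionField _ hI

theorem isDedekindDomain_chart [IsLocallyNoetherian X] (hdim : topologicalKrullDim X ≤ 1)
    {U : X.Opens} (hU : IsAffineOpen U) [Nonempty U] :
    IsDedekindDomain (integralClosure Γ(X, U) X.functionField) := by
  have := functionField_isFractionRing_of_isAffineOpen X U hU
  have := krullDimLE_of_isAffineOpen X hdim hU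
  have : IsNoetherianRing Γ(X, U) := IsLocallyNoetherian.component_noetherian ⟨U, hU⟩
  exact VarDim1.isDedekindDomain_integralClosure X.functionField

variable [QuasiCompact (X.fromSpecStalk (genericPoint X))] [QuasiSeparated (X.fromSpecStalk (genericPoint X))]

theorem finite_fibre [IsLocallyNoetherian X] (hdim : topologicalKrullDim X ≤ 1) (x : X) :
    Finite {x' : ↥(Curv2.normalization X) // (Curv2.normalizationι X).base x' = x} := by
  obtain ⟨_, ⟨U, hU', rfl⟩, hxU, -⟩ := X.isBasis_affineOpens.exists_subset_of_mem_open (Set.mem_univ x) isOpen_univ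
  have hU : IsAffineOpen U := hU'
  have : Nonempty U := ⟨⟨x, hxU⟩⟩
  obtain ⟨g, hg, hrange, hcomp⟩ := exists_chart X U hU
  let A := Γ(X, U); let C := integralClosure Γ(X, U) X.functionField
  let p := hU.primeIdealOf ⟨x, hxU⟩
  have hfin : {P : PrimeSpectrum C | P.comap (algebraMap A C) = p}.Finite := by
    have := functionField_isFractionRing_of_isAffineOpen X U hU
    have := krullDimLE_of_isAffineOpen X hdim hU
    have : IsNoetherianRing Γ(X, U) := IsLocallyNoetherian.component_noetherian ⟨U, hU⟩
    by_cases hp : p.asIdeal = ⊥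
    · refine (Set.finite_singleton (⟨⊥, Ideal.isPrime_bot⟩ : PrimeSpectrum C)).subset fun P hP => ?_
      exact PrimeSpectrum.ext (Ideal.eq_bot_of_comap_eq_bot ((congrArg PrimeSpectrum.asIdeal hP).trans hp))
    · obtain ⟨a, ha, ha0⟩ := Submodule.exists_mem_ne_zero_of_ne_bot hp
      have hI : Ideal.span {algebraMap A C a} ≠ ⊥ := by
        rw [Ne, Ideal.span_singleton_eq_bot]
        intro h
        exact ha0 ((IsFractionRing.to_map_eq_zero_iff (K := X.functionField)).1 (congrArg Subtype.val h))
      refine ((VarDim1.finite_setOf_prime_ge X.functionField C hI).preimage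
        (fun _ _ _ _ h => PrimeSpectrum.ext h)).subset fun P hP => ⟨P.2, ?_⟩
      rw [Ideal.span_le, Set.singleton_subset_iff]
      exact (congrArg PrimeSpectrum.asIdeal hP).ge ha
  have hsub : {x' | (Curv2.normalizationι X).base x' = x} ⊆ g.base '' {P : PrimeSpectrum C | P.comap (algebraMap A C) = p} := by
    intro x' hx'
    have hx'' : (Curv2.normalizationι X).base x' = x := hx'
    have : x' ∈ g.opensRange := by rw [hrange]; show (Curv2.normalizationι X).base x' ∈ U; rw [hx'']; exact hxU
    obtain ⟨P, rfl⟩ := this
    have : IsOpenImmersion hU.fromSpec := IsAffineOpen.isOpenImmersion_fromSpec hU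
    refine ⟨P, hU.fromSpec.isOpenEmbedding.injective ?_, rfl⟩
    have := congrArg (fun φ => φ.base P) hcomp
    simp only [Scheme.Hom.comp_base, TopCat.coe_comp, Function.comp_apply] at this
    rw [hU.fromSpec_primeIdealOf ⟨x, hxU⟩]
    exact this.symm.trans hx''
  exact ((hfin.image _).subset hsub).to_subtype

theorem isLocallyNoetherian [IsLocallyNoetherian X] (hdim : topologicalKrullDim X ≤ 1) :
    IsLocallyNoetherian (Curv2.normalization X) := by
  choose U hU hxU using exists_affine_nonempty X
  have hne : ∀ x', Nonempty (U x') := fun x' => ⟨⟨_, hxU x'⟩⟩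
  choose g hg hrange _ using fun x' => exists_chart X (U x') (hU x')
  let S : ↥(Curv2.normalization X) → (Curv2.normalization X).affineOpens := fun x' =>
    ⟨(g x').opensRange, isAffineOpen_opensRange (g x')⟩
  have hS : (⨆ x', (S x' : (Curv2.normalization X).Opens)) = ⊤ := by
    refine top_le_iff.1 fun x' _ => TopologicalSpace.Opens.mem_iSup.2 ⟨x', ?_⟩
    show x' ∈ (g x').opensRange
    rw [hrange x']; exact hxU x'
  rw [isLocallyNoetherian_iff_of_iSup_eq_top hS]
  intro x'
  have := isDedekindDomain_chart X hdim (hU x')
  exact isNoetherianRing_of_ringEquiv (integralClosure Γ(X, U x') X.functionField)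
    ((Scheme.ΓSpecIso (.of (integralClosure Γ(X, U x') X.functionField))).symm ≪≫ ((g x').appIso ⊤).symm ≪≫
      (Curv2.normalization X).presheaf.mapIso (eqToIso (Scheme.Hom.image_top_eq_opensRange (g x')).symm).op).commRingCatIsoToRingEquiv

theorem stalk_iso_chart (x' : Curv2.normalization X) :
    ∃ (U : X.Opens) (_ : IsAffineOpen U) (_ : Nonempty U) (P : PrimeSpectrum (integralClosure Γ(X, U) X.functionField)),
      Nonempty (Localization.AtPrime P.asIdeal ≃+* (Curv2.normalization X).presheaf.stalk x') := by
  obtain ⟨U, hU, hxU⟩ := exists_affine_nonempty X x'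
  have : Nonempty U := ⟨⟨_, hxU⟩⟩
  obtain ⟨g, hg, hrange, -⟩ := exists_chart X U hU
  obtain ⟨P, rfl⟩ : x' ∈ g.opensRange := hrange ▸ hxU
  exact ⟨U, hU, inferInstance, P, ⟨((Spec.stalkIso _ P).symm ≪≫ (asIso (g.stalkMap P)).symm).commRingCatIsoToRingEquiv⟩⟩

theorem isNormalScheme : Pi1.IsNormalScheme (Curv2.normalization X) := by
  intro x'
  obtain ⟨U, hU, hne, P, ⟨e⟩⟩ := stalk_iso_chart X x'
  have := functionField_isFractionRing_of_isAffineOpen X U hU
  have : Algebra.IsAlgebraic Γ(X, U) X.functionField := IsLocalization.isAlgebraic _ (nonZeroDivisors _)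
  have : IsFractionRing (integralClosure Γ(X, U) X.functionField) X.functionField :=
    integralClosure.isFractionRing_of_algebraic fun x hx => IsFractionRing.to_map_eq_zero_iff.1 hx
  have : IsIntegrallyClosed (integralClosure Γ(X, U) X.functionField) :=
    (isIntegrallyClosed_iff X.functionField).2 fun {x} hx => ⟨⟨x, isIntegral_trans x hx⟩, rfl⟩
  have : IsIntegrallyClosed (Localization.AtPrime P.asIdeal) :=
    isIntegrallyClosed_of_isLocalization _ P.asIdeal.primeCompl P.asIdeal.primeCompl_le_nonZeroDivisors
  exact ⟨e.symm.toMulEquiv.isDomain _, IsIntegrallyClosed.of_equiv e⟩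

theorem isDedekindDomain_section [IsLocallyNoetherian X] (hdim : topologicalKrullDim X ≤ 1)
    (W : (Curv2.normalization X).affineOpens) (hW : ((W : (Curv2.normalization X).Opens) : Set ↥(Curv2.normalization X)).Nonempty) :
    IsDedekindDomain Γ(Curv2.normalization X, (W : (Curv2.normalization X).Opens)) := by
  have : IsIntegral (Curv2.normalization X) :=
    inferInstanceAs (IsIntegral (X.fromSpecStalk (genericPoint X)).normalization)
  have := isLocallyNoetherian X hdim
  let R := Γ(Curv2.normalization X, (W : (Curv2.normalization X).Opens))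
  have : Nonempty (W : (Curv2.normalization X).Opens) := hW.to_subtype
  have : IsDedekindDomainDvr R :=
    { (IsLocallyNoetherian.component_noetherian W : IsNoetherianRing R) with
      is_dvr_at_nonzero_prime := fun Q hQ hQp => by
        let q : PrimeSpectrum R := ⟨Q, hQp⟩
        let y := W.2.fromSpec.base q
        have hW' : IsAffineOpen (W : (Curv2.normalization X).Opens) := W.2
        have hy : y ∈ (W : (Curv2.normalization X).Opens) := hW'.range_fromSpec.le ⟨q, rfl⟩
        let := TopCat.Presheaf.algebra_section_stalk (Curv2.normalization X).presheaf (⟨y, hy⟩ : (W : (Curv2.normalization X).Opens))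
        have : IsLocalization Q.primeCompl ((Curv2.normalization X).presheaf.stalk ↑(⟨y, hy⟩ : (W : (Curv2.normalization X).Opens))) :=
          hW'.isLocalization_stalk' q hy
        have eW : Localization.AtPrime Q ≃+* (Curv2.normalization X).presheaf.stalk y :=
          (IsLocalization.algEquiv Q.primeCompl (Localization.AtPrime Q)
            ((Curv2.normalization X).presheaf.stalk ↑(⟨y, hy⟩ : (W : (Curv2.normalization X).Opens)))).toRingEquiv
        obtain ⟨U, hU, hne, P, ⟨e⟩⟩ := stalk_iso_chart X y
        have hD := isDedekindDomain_chart X hdim hU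
        let e' := eW.trans e.symm
        have hP : P.asIdeal ≠ ⊥ := by
          intro hP
          have hf : IsField (Localization.AtPrime P.asIdeal) := by
            refine IsLocalRing.isField_iff_maximalIdeal_eq.2 ?_
            exact (IsLocalization.AtPrime.map_eq_maximalIdeal P.asIdeal (Localization.AtPrime P.asIdeal)).symm.trans
              ((congrArg (Ideal.map _) hP).trans Ideal.map_bot)
          have hf' : IsField (Localization.AtPrime Q) := e'.toMulEquiv.isField hf
          rw [IsLocalRing.isField_iff_maximalIdeal_eq, ← IsLocalization.AtPrime.map_eq_maximalIdeal Q,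
            Ideal.map_eq_bot_iff_of_injective (IsLocalization.injective _ Q.primeCompl_le_nonZeroDivisors)] at hf'
          exact hQ hf'
        have : IsDiscreteValuationRing (Localization.AtPrime P.asIdeal) :=
          IsLocalization.AtPrime.isDiscreteValuationRing_of_dedekind_domain _ hP _
        exact IsDiscreteValuationRing.RingEquivClass.isDiscreteValuationRing e'.symm }
  infer_instance

theorem finite_residueFieldMap [IsLocallyNoetherian X] (hdim : topologicalKrullDim X ≤ 1)
    (x' : Curv2.normalization X) : ((Curv2.normalizationι X).residueFieldMap x').hom.Finite := by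
  obtain ⟨U, hU, hxU⟩ := exists_affine_nonempty X x'
  have : Nonempty U := ⟨⟨_, hxU⟩⟩
  obtain ⟨g, hg, hrange, hcomp⟩ := exists_chart X U hU
  obtain ⟨P, rfl⟩ : x' ∈ g.opensRange := hrange ▸ hxU
  have finite_of_iso : ∀ {R S : CommRingCat.{u}} (φ : R ⟶ S), IsIso φ → φ.hom.Finite := fun φ _ =>
    RingHom.Finite.of_surjective _ (ConcreteCategory.bijective_of_isIso φ).2
  let φ := CommRingCat.ofHom (algebraMap Γ(X, U) (integralClosure Γ(X, U) X.functionField))
  have hginv := finite_of_iso (inv (g.residueFieldMap P)) inferInstance
  suffices h : ((g ≫ Curv2.normalizationι X).residueFieldMap P).hom.Finite by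
    have h2 : (((Curv2.normalizationι X).residueFieldMap (g.base P)) ≫ g.residueFieldMap P).hom.Finite := by
      rw [← Scheme.residueFieldMap_comp]; exact h
    have := hginv.comp h2
    rw [← CommRingCat.hom_comp, Category.assoc, IsIso.hom_inv_id, Category.comp_id] at this
    exact this
  rw [Scheme.Hom.residueFieldMap_congr hcomp, Scheme.residueFieldMap_comp]
  refine RingHom.Finite.comp (RingHom.Finite.comp ?_ (finite_of_iso _ inferInstance)) (finite_of_iso _ inferInstance)
  have := functionField_isFractionRing_of_isAffineOpen X U hU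
  by_cases hP : (P : PrimeSpectrum (integralClosure Γ(X, U) X.functionField)).asIdeal = ⊥
  · refine RingHom.Finite.of_surjective _ (surjective_residueFieldMap_SpecMap φ P fun z => ?_)
    have := functionField_isFractionRing_of_isAffineOpen X U hU
    obtain ⟨a, b, hb, hab⟩ := IsFractionRing.div_surjective Γ(X, U) (z : X.functionField)
    have hb' : algebraMap Γ(X, U) X.functionField b ≠ 0 := fun h =>
      nonZeroDivisors.ne_zero hb (IsFractionRing.to_map_eq_zero_iff.1 h)
    refine ⟨a, b, fun h => nonZeroDivisors.ne_zero hb ?_, Subtype.ext ?_⟩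
    · rw [hP, Ideal.mem_bot] at h
      exact IsFractionRing.to_map_eq_zero_iff.1 (congrArg Subtype.val h)
    · show algebraMap Γ(X, U) X.functionField b * (z : X.functionField) = algebraMap Γ(X, U) X.functionField a
      rw [← hab, mul_div_cancel₀ _ hb']
  · have := krullDimLE_of_isAffineOpen X hdim hU
    have : IsNoetherianRing Γ(X, U) := IsLocallyNoetherian.component_noetherian ⟨U, hU⟩
    have := VarDim1.krullDimLE_subalgebra X.functionField (integralClosure Γ(X, U) X.functionField)
    refine finite_residueFieldMap_SpecMap φ P ((P : PrimeSpectrum (integralClosure Γ(X, U) X.functionField)).2.isMaximal_of_ne_bot hP) ?_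
    exact RingHom.finite_algebraMap.mpr (finite_quotient_of_ne_bot X hdim hU hP)

end Groth.Agent.VarNorm
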