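import Mathlib.AlgebraicGeometry.Normalization
import Mathlib.AlgebraicGeometry.FunctionField
import Mathlib.AlgebraicGeometry.Stalk
import Mathlib.AlgebraicGeometry.ResidueField
import Mathlib.AlgebraicGeometry.Morphisms.Finite
import Mathlib.RingTheory.IntegralClosure.Algebra.Basic
import Groth.Prelude.Def_Curv2

universe u

open CategoryTheory CategoryTheory.Limits AlgebraicGeometry

/-! Affine charts of the normalization of an integral scheme. -/

namespace Groth.Agent.VarNorm

variable (X : Scheme.{u}) [IsIntegral X]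

theorem genericPoint_mem {U : X.Opens} (hU : (U : Set X).Nonempty) : genericPoint X ∈ U :=
  ((genericPoint_spec X).mem_open_set_iff U.isOpen).2 (by simpa using hU)

variable [QuasiCompact (X.fromSpecStalk (genericPoint X))] [QuasiSeparated (X.fromSpecStalk (genericPoint X))]

theorem exists_chart (U : X.Opens) (hU : IsAffineOpen U) [hne : Nonempty U] :
    ∃ (g : Spec (.of (integralClosure Γ(X, U) X.functionField)) ⟶ Curv2.normalization X)
      (_ : IsOpenImmersion g),
      g.opensRange = Curv2.normalizationι X ⁻¹ᵁ U ∧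
      g ≫ Curv2.normalizationι X =
        Spec.map (CommRingCat.ofHom (algebraMap Γ(X, U) (integralClosure Γ(X, U) X.functionField))) ≫
          hU.fromSpec := by
  obtain ⟨⟨x₀, hx₀⟩⟩ := id hne
  let f := X.fromSpecStalk (genericPoint X)
  have hη : genericPoint X ∈ U := genericPoint_mem X ⟨x₀, hx₀⟩
  have hpre : f ⁻¹ᵁ U = ⊤ := by
    refine top_le_iff.1 fun y _ => ?_
    show f.base y ∈ U
    have hy : y = IsLocalRing.closedPoint (X.presheaf.stalk (genericPoint X)) :=
      Subsingleton.elim (α := PrimeSpectrum X.functionField) _ _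
    rw [hy]
    exact Scheme.fromSpecStalk_closedPoint ▸ hη
  let := (f.app U).hom.toAlgebra
  let i : Γ(Spec (X.presheaf.stalk (genericPoint X)), f ⁻¹ᵁ U) ≅ X.presheaf.stalk (genericPoint X) :=
    (Spec _).presheaf.mapIso (eqToIso hpre).symm.op ≪≫ Scheme.ΓSpecIso _
  have hi : f.app U ≫ i.hom = X.presheaf.germ U (genericPoint X) hη := by
    rw [Scheme.fromSpecStalk_app hη]
    simp [i, ← Functor.map_comp_assoc]
  let e : Γ(Spec (X.presheaf.stalk (genericPoint X)), f ⁻¹ᵁ U) ≃ₐ[Γ(X, U)] X.functionField :=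
    { i.commRingCatIsoToRingEquiv with
      commutes' := fun a => congrArg (fun φ => φ.hom a) hi }
  let φ : integralClosure Γ(X, U) Γ(Spec (X.presheaf.stalk (genericPoint X)), f ⁻¹ᵁ U) ≃ₐ[Γ(X, U)]
      integralClosure Γ(X, U) X.functionField := e.mapIntegralClosure
  let j : (f.normalizationDiagram.obj (.op U) : CommRingCat) ⟶ .of (integralClosure Γ(X, U) X.functionField) :=
    CommRingCat.ofHom φ.toAlgHom.toRingHom
  have : IsIso j := φ.toRingEquiv.toCommRingCatIso.isIso_hom
  let g₀ : Spec (f.normalizationDiagram.obj (.op U)) ⟶ Curv2.normalization X := f.normalizationOpenCover.f ⟨U, hU⟩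
  have hg₀ : IsOpenImmersion g₀ := f.normalizationOpenCover.map_prop _
  refine ⟨Spec.map j ≫ g₀, inferInstance, ?_, ?_⟩
  · rw [Scheme.Hom.opensRange_comp_of_isIso]
    exact (f.fromNormalization_preimage ⟨U, hU⟩).symm
  · have h1 : g₀ ≫ Curv2.normalizationι X = Spec.map (f.normalizationDiagramMap.app (.op U)) ≫ hU.fromSpec :=
      f.ι_fromNormalization ⟨U, hU⟩
    refine (Category.assoc _ _ _).trans ?_
    rw [h1, ← Spec.map_comp_assoc]
    congr 2
    ext a
    exact congrArg Subtype.val (φ.commutes a)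

theorem exists_affine_nonempty (x' : Curv2.normalization X) :
    ∃ U : X.Opens, IsAffineOpen U ∧ (Curv2.normalizationι X).base x' ∈ U := by
  obtain ⟨_, ⟨U, hU, rfl⟩, hxU, -⟩ := X.isBasis_affineOpens.exists_subset_of_mem_open
    (Set.mem_univ ((Curv2.normalizationι X).base x')) isOpen_univ
  exact ⟨U, hU, hxU⟩

theorem residueFieldMap_SpecMap_key {A C : CommRingCat.{u}} (φ : A ⟶ C) (P : Spec C) :
    φ ≫ CommRingCat.ofHom (algebraMap C _) ≫ (Scheme.Spec.residueFieldIso C P).inv =
      CommRingCat.ofHom (algebraMap A _) ≫ (Scheme.Spec.residueFieldIso A ((Spec.map φ).base P)).inv ≫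
        (Spec.map φ).residueFieldMap P := by
  apply Spec.map_injective
  simp only [Spec.map_comp, Category.assoc]
  rw [← Category.assoc (Spec.map (Scheme.Spec.residueFieldIso C P).inv),
    Scheme.Spec.map_residueFieldIso_inv_eq_fromSpecResidueField,
    ← Scheme.Hom.SpecMap_residueFieldMap_fromSpecResidueField,
    Scheme.Spec.map_residueFieldIso_inv_eq_fromSpecResidueField]

/-- The residue map of `Spec φ` at `P` is onto if every element is a fraction from the source modulo `P`. -/
theorem surjective_residueFieldMap_SpecMap {A C : CommRingCat.{u}} (φ : A ⟶ C) (P : Spec C)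
    (h : ∀ z : C, ∃ a b : A, φ.hom b ∉ (P : PrimeSpectrum C).asIdeal ∧ φ.hom b * z = φ.hom a) :
    Function.Surjective ((Spec.map φ).residueFieldMap P).hom := by
  let α : A →+* (Spec A).residueField ((Spec.map φ).base P) :=
    (CommRingCat.ofHom (algebraMap A _) ≫ (Scheme.Spec.residueFieldIso A ((Spec.map φ).base P)).inv).hom
  let β : C →+* (Spec C).residueField P :=
    (CommRingCat.ofHom (algebraMap C _) ≫ (Scheme.Spec.residueFieldIso C P).inv).hom
  have hkey : ∀ a, β (φ.hom a) = ((Spec.map φ).residueFieldMap P).hom (α a) := fun a =>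
    congrArg (fun ψ => ψ.hom a) (residueFieldMap_SpecMap_key φ P)
  have hbij := ConcreteCategory.bijective_of_isIso (Scheme.Spec.residueFieldIso C P).inv
  have hne : ∀ d : C, d ∉ (P : PrimeSpectrum C).asIdeal → β d ≠ 0 := fun d hd h0 => by
    refine hd (Ideal.algebraMap_residueField_eq_zero.1 (hbij.1 ?_))
    exact h0.trans (map_zero _).symm
  have hC : ∀ c : C, ∃ y, ((Spec.map φ).residueFieldMap P).hom y = β c := fun c => by
    obtain ⟨a, b, hb, e⟩ := h c
    refine ⟨α a / α b, ?_⟩
    rw [map_div₀, ← hkey, ← hkey, ← e, map_mul, mul_div_cancel_left₀ _ (hne _ hb)]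
  intro x
  obtain ⟨w, hw⟩ := hbij.2 x
  obtain ⟨c, d, hd, hcd⟩ := IsFractionRing.div_surjective (C ⧸ (P : PrimeSpectrum C).asIdeal) w
  obtain ⟨c, rfl⟩ := Ideal.Quotient.mk_surjective c
  obtain ⟨d, rfl⟩ := Ideal.Quotient.mk_surjective d
  obtain ⟨y₁, h₁⟩ := hC c
  obtain ⟨y₂, h₂⟩ := hC d
  refine ⟨y₁ / y₂, ?_⟩
  rw [map_div₀, h₁, h₂, ← hw, ← hcd]
  exact (map_div₀ (Scheme.Spec.residueFieldIso C P).inv.hom _ _).symm

/-- Residue fields of `Spec` of a ring map at a maximal ideal with module-finite quotient. -/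
theorem finite_residueFieldMap_SpecMap {A C : CommRingCat.{u}} (φ : A ⟶ C) (P : Spec C)
    (hP : (P : PrimeSpectrum C).asIdeal.IsMaximal)
    (hfin : ((Ideal.Quotient.mk (P : PrimeSpectrum C).asIdeal).comp φ.hom).Finite) :
    ((Spec.map φ).residueFieldMap P).hom.Finite := by
  have key := residueFieldMap_SpecMap_key φ P
  have hfin' : (φ ≫ CommRingCat.ofHom (algebraMap C _) ≫ (Scheme.Spec.residueFieldIso C P).inv).hom.Finite := by
    have := hP
    let q : C ⧸ (P : PrimeSpectrum C).asIdeal →+* (P : PrimeSpectrum C).asIdeal.ResidueField := algebraMap _ _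
    have hq : q.Finite := RingHom.Finite.of_surjective q
      (Ideal.bijective_algebraMap_quotient_residueField _).2
    have h3 : ((Scheme.Spec.residueFieldIso C P).inv.hom).Finite :=
      RingHom.Finite.of_surjective _ (ConcreteCategory.bijective_of_isIso (Scheme.Spec.residueFieldIso C P).inv).2
    exact h3.comp (hq.comp hfin)
  rw [key] at hfin'
  simp only [CommRingCat.hom_comp] at hfin'
  rw [RingHom.comp_assoc] at hfin'
  exact RingHom.Finite.of_comp_finite hfin'

end Groth.Agent.VarNorm
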