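import Groth.Agent.VarNorm.Chart
import Groth.Agent.VarNorm.Branches
import Groth.Agent.Div89.Stalk
import Mathlib.RingTheory.Localization.Integral

universe u

open CategoryTheory CategoryTheory.Limits AlgebraicGeometry

/-! Points of the normalization over a point, as maximal ideals of a semilocal ring. -/

set_option backward.isDefEq.respectTransparency.types false

namespace Groth.Agent.VarNorm

theorem evaluation_residueFieldMap_congr {X Y : Scheme.{u}} {f f' : Y ⟶ X} (e : f = f') (U : X.Opens) (y : Y)
    (h : f.base y ∈ U) :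
    X.evaluation U (f.base y) h ≫ f.residueFieldMap y =
      X.evaluation U (f'.base y) (e ▸ h) ≫ f'.residueFieldMap y := by
  subst e; rfl

theorem evaluation_SpecMap_fromSpec {X : Scheme.{u}} {U : X.Opens} (hU : IsAffineOpen U) {C : CommRingCat.{u}}
    (φ : Γ(X, U) ⟶ C) (P : Spec C) (hm : (Spec.map φ ≫ hU.fromSpec).base P ∈ U) :
    X.evaluation U _ hm ≫ (Spec.map φ ≫ hU.fromSpec).residueFieldMap P =
      φ ≫ CommRingCat.ofHom (algebraMap C _) ≫ (Scheme.Spec.residueFieldIso C P).inv := by
  rw [residueFieldMap_SpecMap_key, Scheme.residueFieldMap_comp]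
  erw [Scheme.evaluation_naturality_assoc]
  rw [← Category.assoc (CommRingCat.ofHom _), Scheme.Spec.algebraMap_residueFieldIso_inv, IsAffineOpen.fromSpec_app_self]
  simp only [Category.assoc, Scheme.germ_residue]
  congr 1
  rw [Scheme.evaluation, Scheme.evaluation, Category.assoc, Category.assoc,
    TopCat.Presheaf.germ_res_assoc]

theorem enat_card_embOf_eq {X' X : Scheme.{u}} (f : X' ⟶ X) {x : X} (x' : X') (hx : f.base x' = x)
    (U : X.Opens) (hU : IsAffineOpen U) (hxU : x ∈ U) (D : Type u) [CommRing D] [Algebra (X.presheaf.stalk x) D]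
    [Algebra.IsIntegral (X.presheaf.stalk x) D] (Q : MaximalSpectrum D)
    (χ : D ⧸ Q.asIdeal ≃+* X'.residueField x')
    (hχ : ∀ a, χ (Ideal.Quotient.mk Q.asIdeal (algebraMap (X.presheaf.stalk x) D (X.presheaf.germ U x hxU a))) =
      (f.residueFieldMap x').hom (X.evaluation U (f.base x') (hx ▸ hxU) a)) :
    ENat.card (EmbOf (X.presheaf.stalk x) D Q) =
      (letI := (f.residueFieldMap x').hom.toAlgebra
       ENat.card (Field.Emb (X.residueField (f.base x')) (X'.residueField x'))) := by
  subst hx
  let _ : Algebra (IsLocalRing.ResidueField (X.presheaf.stalk (f.base x'))) (X'.residueField x') :=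
    (f.residueFieldMap x').hom.toAlgebra
  let := Div89.stalkAlg U (f.base x') hxU
  have := Div89.primeAt_isPrime ⟨U, hU⟩ (f.base x') hxU
  have := Div89.isLocalization_stalk ⟨U, hU⟩ (f.base x') hxU
  have key : χ.toRingHom.comp ((Ideal.Quotient.mk Q.asIdeal).comp (algebraMap (X.presheaf.stalk (f.base x')) D)) =
      (algebraMap (IsLocalRing.ResidueField (X.presheaf.stalk (f.base x'))) (X'.residueField x')).comp
        (IsLocalRing.residue (X.presheaf.stalk (f.base x'))) := by
    exact IsLocalization.ringHom_ext (Div89.primeAt ⟨U, hU⟩ (f.base x') hxU).primeCompl (RingHom.ext fun a => hχ a)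
  obtain ⟨⟨e⟩, -⟩ := nonempty_embOf_equiv (X.presheaf.stalk (f.base x')) Q (X'.residueField x') χ
    (fun a => RingHom.congr_fun key a)
  exact ENat.card_congr e

variable (X : Scheme.{u}) [IsIntegral X]
variable [QuasiCompact (X.fromSpecStalk (genericPoint X))] [QuasiSeparated (X.fromSpecStalk (genericPoint X))]

theorem exists_fibre_equiv (x : X) :
    ∃ Φ : MaximalSpectrum (integralClosure (X.presheaf.stalk x) X.functionField) ≃
        {x' : ↥(Curv2.normalization X) // (Curv2.normalizationι X).base x' = x},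
      ∀ Q, ENat.card (EmbOf (X.presheaf.stalk x) (integralClosure (X.presheaf.stalk x) X.functionField) Q) =
        (letI := ((Curv2.normalizationι X).residueFieldMap (Φ Q).1).hom.toAlgebra
         ENat.card (Field.Emb (X.residueField ((Curv2.normalizationι X).base (Φ Q).1))
           ((Curv2.normalization X).residueField (Φ Q).1))) := by
  classical
  obtain ⟨_, ⟨U, hU', rfl⟩, hxU, -⟩ := X.isBasis_affineOpens.exists_subset_of_mem_open (Set.mem_univ x) isOpen_univ
  have hU : IsAffineOpen U := hU'
  have : Nonempty U := ⟨⟨x, hxU⟩⟩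
  obtain ⟨g, hg, hrange, hcomp⟩ := exists_chart X U hU
  let A := Γ(X, U)
  let C := integralClosure A X.functionField
  let D := integralClosure (X.presheaf.stalk x) X.functionField
  let p : Ideal A := Div89.primeAt ⟨U, hU⟩ x hxU
  have hp : p.IsPrime := Div89.primeAt_isPrime ⟨U, hU⟩ x hxU
  let := Div89.stalkAlg U x hxU
  have hloc : IsLocalization.AtPrime (X.presheaf.stalk x) p := Div89.isLocalization_stalk ⟨U, hU⟩ x hxU
  have : IsScalarTower A (X.presheaf.stalk x) X.functionField := functionField_isScalarTower X U ⟨x, hxU⟩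
  let _ : Algebra C D := RingHom.toAlgebra
    { toFun := fun z => ⟨z.1, IsIntegral.tower_top (A := X.presheaf.stalk x) z.2⟩
      map_one' := rfl
      map_mul' := fun _ _ => rfl
      map_zero' := rfl
      map_add' := fun _ _ => rfl }
  have hAD : ∀ a : A, algebraMap C D (algebraMap A C a) =
      algebraMap (X.presheaf.stalk x) D (algebraMap A (X.presheaf.stalk x) a) := fun a =>
    Subtype.ext (IsScalarTower.algebraMap_apply A (X.presheaf.stalk x) X.functionField a)
  let M : Submonoid C := Algebra.algebraMapSubmonoid C p.primeCompl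
  have hCD : IsLocalization M D :=
    { map_units := fun m => by
        obtain ⟨a, ha, hm⟩ := m.2
        rw [← hm, hAD]
        exact (IsLocalization.map_units (X.presheaf.stalk x) (⟨a, ha⟩ : p.primeCompl)).map _
      surj := fun z => by
        obtain ⟨t, ht⟩ := IsIntegral.exists_multiple_integral_of_isLocalization p.primeCompl (z : X.functionField) z.2
        refine ⟨⟨⟨_, ht⟩, ⟨algebraMap A C t.1, t.1, t.2, rfl⟩⟩, Subtype.ext ?_⟩
        show (z : X.functionField) * algebraMap A X.functionField t.1 = t • (z : X.functionField)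
        rw [Submonoid.smul_def, Algebra.smul_def, mul_comm]
      exists_of_eq := fun {a b} h =>
        ⟨1, congrArg _ (Subtype.ext (congrArg Subtype.val h :) : a = b)⟩ }
  -- the prime of `C` under a maximal ideal of `D`
  let P : MaximalSpectrum D → PrimeSpectrum C := fun Q => ⟨Q.asIdeal.comap (algebraMap C D), inferInstance⟩
  have hPp : ∀ Q, (P Q).asIdeal.comap (algebraMap A C) = p := fun Q => by
    have h1 : Q.asIdeal.comap (algebraMap (X.presheaf.stalk x) D) = IsLocalRing.maximalIdeal _ :=
      IsLocalRing.eq_maximalIdeal (Ideal.isMaximal_comap_of_isIntegral_of_isMaximal Q.asIdeal)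
    ext a
    show algebraMap C D (algebraMap A C a) ∈ Q.asIdeal ↔ a ∈ p
    rw [hAD, ← Ideal.mem_comap, h1, IsLocalization.AtPrime.to_map_mem_maximal_iff (X.presheaf.stalk x) p]
  have hPinj : Function.Injective P := fun Q Q' h => MaximalSpectrum.ext (by
    rw [← IsLocalization.map_under M D Q.asIdeal, ← IsLocalization.map_under M D Q'.asIdeal]
    exact congrArg (Ideal.map _) (congrArg PrimeSpectrum.asIdeal h))
  have hspec : ∀ P₀ : PrimeSpectrum C, (Curv2.normalizationι X).base (g.base P₀) =
      hU.fromSpec.base ((PrimeSpectrum.comap (algebraMap A C)) P₀) := fun P₀ => by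
    have := congrArg (fun φ => φ.base P₀) hcomp
    simp only [Scheme.Hom.comp_base, TopCat.coe_comp, Function.comp_apply] at this
    exact this
  have hΦ : ∀ Q, (Curv2.normalizationι X).base (g.base (P Q)) = x := fun Q => by
    rw [hspec, show PrimeSpectrum.comap (algebraMap A C) (P Q) = hU.primeIdealOf ⟨x, hxU⟩ from
      PrimeSpectrum.ext (hPp Q)]
    exact hU.fromSpec_primeIdealOf ⟨x, hxU⟩
  let Φ₀ : MaximalSpectrum D → {x' : ↥(Curv2.normalization X) // (Curv2.normalizationι X).base x' = x} :=
    fun Q => ⟨g.base (P Q), hΦ Q⟩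
  have hbij : Function.Bijective Φ₀ := by
    refine ⟨fun Q Q' h => hPinj (g.isOpenEmbedding.injective (congrArg Subtype.val h)), ?_⟩
    rintro ⟨x', hx'⟩
    obtain ⟨P₀, rfl⟩ : x' ∈ g.opensRange := by
      rw [hrange]; show (Curv2.normalizationι X).base x' ∈ U; rw [hx']; exact hxU
    have : IsOpenImmersion hU.fromSpec := IsAffineOpen.isOpenImmersion_fromSpec hU
    have hP₀ : PrimeSpectrum.comap (algebraMap A C) P₀ = hU.primeIdealOf ⟨x, hxU⟩ := by
      apply hU.fromSpec.isOpenEmbedding.injective
      rw [hU.fromSpec_primeIdealOf ⟨x, hxU⟩]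
      exact (hspec P₀).symm.trans hx'
    have hP₀' : P₀.asIdeal.comap (algebraMap A C) = p := congrArg PrimeSpectrum.asIdeal hP₀
    have hdisj : Disjoint (M : Set C) P₀.asIdeal := Set.disjoint_left.2 fun c hc hcP => by
      obtain ⟨a, ha, rfl⟩ := hc
      exact ha (hP₀' ▸ hcP : a ∈ p)
    have hprime := IsLocalization.isPrime_of_isPrime_disjoint M D P₀.asIdeal P₀.2 hdisj
    have hcomap := IsLocalization.under_map_of_isPrime_disjoint M D P₀.2 hdisj
    have hmax : (P₀.asIdeal.map (algebraMap C D)).IsMaximal := by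
      refine Ideal.isMaximal_of_isIntegral_of_isMaximal_comap (R := X.presheaf.stalk x) _ ?_
      have h2 : ((P₀.asIdeal.map (algebraMap C D)).comap (algebraMap (X.presheaf.stalk x) D)).comap
          (algebraMap A (X.presheaf.stalk x)) = p := by
        ext a
        rw [Ideal.mem_comap, Ideal.mem_comap, ← hAD, ← hP₀']
        exact SetLike.ext_iff.1 hcomap (algebraMap A C a)
      rw [← IsLocalization.map_under p.primeCompl (X.presheaf.stalk x)
        ((P₀.asIdeal.map (algebraMap C D)).comap (algebraMap (X.presheaf.stalk x) D))]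
      show ((Ideal.comap _ _).map _).IsMaximal
      rw [h2, IsLocalization.AtPrime.map_eq_maximalIdeal p]
      exact IsLocalRing.maximalIdeal.isMaximal _
    refine ⟨⟨_, hmax⟩, Subtype.ext (congrArg g.base ?_)⟩
    exact PrimeSpectrum.ext hcomap
  refine ⟨Equiv.ofBijective Φ₀ hbij, fun Q => ?_⟩
  let β : CommRingCat.of C ⟶ (Curv2.normalization X).residueField (g.base (P Q)) :=
    CommRingCat.ofHom (algebraMap C _) ≫ (Scheme.Spec.residueFieldIso (.of C) (P Q)).inv ≫ inv (g.residueFieldMap (P Q))
  let w := (Scheme.Spec.residueFieldIso (.of C) (P Q)).inv ≫ inv (g.residueFieldMap (P Q))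
  have hw : Function.Bijective w.hom := ConcreteCategory.bijective_of_isIso w
  have hβker : ∀ c, β.hom c = 0 ↔ c ∈ (P Q).asIdeal := fun c => by
    rw [← Ideal.algebraMap_residueField_eq_zero]
    exact map_eq_zero_iff _ hw.1
  have hβunit : ∀ m : M, IsUnit (β.hom m) := fun m => isUnit_iff_ne_zero.2 fun h0 => by
    obtain ⟨a, ha, hm⟩ := m.2
    rw [hβker, ← hm] at h0
    exact ha ((hPp Q) ▸ h0 : a ∈ p)
  let βD : D →+* (Curv2.normalization X).residueField (g.base (P Q)) := IsLocalization.lift hβunit
  have hβD : ∀ c, βD (algebraMap C D c) = β.hom c := IsLocalization.lift_eq hβunit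
  have hkerP : (RingHom.ker βD).comap (algebraMap C D) = (P Q).asIdeal := by
    ext c; rw [Ideal.mem_comap, RingHom.mem_ker, hβD, hβker]
  have hker : (RingHom.ker βD : Ideal D) = Q.asIdeal := by
    rw [← IsLocalization.map_under M D (Q.asIdeal : Ideal D), ← IsLocalization.map_under M D (RingHom.ker βD : Ideal D)]
    exact congrArg (Ideal.map _) hkerP
  have hsurj : Function.Surjective βD := fun y => by
    obtain ⟨z, rfl⟩ := hw.2 y
    obtain ⟨c, d, hd, rfl⟩ := IsFractionRing.div_surjective (C ⧸ (P Q).asIdeal) z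
    obtain ⟨c, rfl⟩ := Ideal.Quotient.mk_surjective c
    obtain ⟨d, rfl⟩ := Ideal.Quotient.mk_surjective d
    have hd' : algebraMap C D d ∉ Q.asIdeal := fun h =>
      nonZeroDivisors.ne_zero hd (Ideal.Quotient.eq_zero_iff_mem.2 h)
    have := Q.isMaximal
    obtain ⟨e, he⟩ := Ideal.Quotient.mk_surjective (I := Q.asIdeal)
      ((Ideal.Quotient.field Q.asIdeal).inv (Ideal.Quotient.mk Q.asIdeal (algebraMap C D d)))
    refine ⟨algebraMap C D c * e, ?_⟩
    have hne : β.hom d ≠ 0 := fun h => hd' ((hβker d).1 h)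
    have h1 : βD (algebraMap C D d) * βD e = 1 := by
      rw [← map_mul, ← sub_eq_zero, ← map_one βD, ← map_sub, ← RingHom.mem_ker, hker,
        ← Ideal.Quotient.eq_zero_iff_mem, map_sub, map_mul, map_one, he, sub_eq_zero]
      let := Ideal.Quotient.field Q.asIdeal
      exact mul_inv_cancel₀ fun h => hd' (Ideal.Quotient.eq_zero_iff_mem.1 h)
    rw [map_mul, eq_inv_of_mul_eq_one_right h1, hβD, hβD, ← div_eq_mul_inv]
    exact (map_div₀ w.hom _ _).symm
  let χ : D ⧸ Q.asIdeal ≃+* (Curv2.normalization X).residueField (g.base (P Q)) :=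
    (Ideal.quotEquivOfEq hker.symm).trans (RingHom.quotientKerEquivOfSurjective hsurj)
  refine enat_card_embOf_eq (Curv2.normalizationι X) (g.base (P Q)) (hΦ Q) U hU hxU D Q χ fun a => ?_
  show βD (algebraMap (X.presheaf.stalk x) D (algebraMap A (X.presheaf.stalk x) a)) = _
  rw [← hAD, hβD]
  have hgU : (Curv2.normalizationι X).base (g.base (P Q)) ∈ U := (hΦ Q).symm ▸ hxU
  have h3 : X.evaluation U _ hgU ≫ (Curv2.normalizationι X).residueFieldMap (g.base (P Q)) =
      CommRingCat.ofHom (algebraMap A C) ≫ β := by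
    rw [← cancel_mono (g.residueFieldMap (P Q))]
    simp only [β, Category.assoc, IsIso.inv_hom_id, Category.comp_id]
    rw [← Scheme.residueFieldMap_comp]
    exact (evaluation_residueFieldMap_congr hcomp U (P Q) hgU).trans (evaluation_SpecMap_fromSpec hU _ _ _)
  exact (congrArg (fun ψ => ψ.hom a) h3).symm

end Groth.Agent.VarNorm
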